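import Mathlib
import Cfsg.Agent.Lib.RootConn.Basic

/-!
Root involutions, towards the structure of the group generated by the isolated members of a commuting set: basic
facts on involutions, on members with the same commuting members and on isolated members.
-/

set_option autoImplicit false
set_option linter.unusedSectionVars false

namespace CfsgLib.RootStruct

open Cfsg Relation CfsgLib.RootInv

universe u
variable {G : Type u} [Group G] {D : Set G}

/-! ### Conjugation by an involution -/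

theorem cancel {c : G} (hc : c * c = 1) (z : G) : c * (c * z) = z := by rw [← mul_assoc, hc, one_mul]

theorem cmul {c : G} (hc : c * c = 1) (x y : G) : c * (x * y) * c = (c * x * c) * (c * y * c) := by
  simp only [mul_assoc, cancel hc]

theorem cfix {c x : G} (hc : c * c = 1) (h : Commute c x) : c * x * c = x := by
  rw [h.eq, mul_assoc, hc, mul_one]

theorem comm_of_cfix {c x : G} (hc : c * c = 1) (h : c * x * c = x) : Commute c x := by
  show c * x = x * c
  conv_rhs => rw [← h]
  rw [mul_assoc (c * x), hc, mul_one]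

theorem cflip {c x y : G} (hc : c * c = 1) (h : c * x * c = y) : c * y * c = x := by
  rw [← h]; simp only [mul_assoc, cancel hc, hc, mul_one]

theorem cinv {c x : G} (hc : c * c = 1) (hx : x * x = 1) : (c * x * c) * (c * x * c) = 1 := by
  simp only [mul_assoc, cancel hc, cancel hx, hc]

theorem ccomm {c x y : G} (hc : c * c = 1) (h : Commute x y) : Commute (c * x * c) (c * y * c) := by
  show c * x * c * (c * y * c) = c * y * c * (c * x * c)
  rw [← cmul hc, ← cmul hc, h.eq]

theorem sq_mul (x y : G) : (x * y) ^ 2 = x * y * x * y := by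
  rw [pow_two]; simp only [mul_assoc]

/-- The common facts on a product of order four. -/
structure Four (D : Set G) (x y b : G) : Prop where
  def_eq : b = x * y * x * y
  mem : b ∈ D
  symm_eq : y * x * y * x = b
  comm_left : Commute x b
  comm_right : Commute y b
  left_eq : y * x * y = x * b
  right_eq : x * y * x = y * b
  line_left : x * b ∈ D
  line_right : y * b ∈ D
  not_comm : ¬ Commute x y

variable (hD : IsRootInvolutionSet D)
include hD

theorem conj_mem' {c x : G} (hc : c ∈ D) (hx : x ∈ D) : c * x * c ∈ D := by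
  have := hD.conj_mem x hx c
  rwa [inv_eq hD hc] at this

theorem not_comm_of_odd {x y : G} (h : OddAdj D x y) : ¬ Commute x y := fun e => by
  have h2 : (x * y) ^ 2 = 1 := by
    rw [e.mul_pow, pow_two, pow_two, mul_self hD h.1, mul_self hD h.2.1, one_mul]
  have := (Nat.coprime_two_right.mpr h.2.2.2).eq_one_of_dvd (orderOf_dvd_of_pow_eq_one h2)
  exact h.2.2.1 (by rw [← inv_eq hD h.1, inv_eq_of_mul_eq_one_right (orderOf_eq_one_iff.mp this)])

theorem four_of {x y : G} (hx : x ∈ D) (hy : y ∈ D) (hne : ¬ Commute x y) (hno : ¬ OddAdj D x y) :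
    Four D x y ((x * y) ^ 2) := by
  rcases hD.pair x hx y hy with e | e | ⟨e, hb⟩
  · exact absurd e hne
  · exact absurd ⟨hx, hy, fun e0 => hne (e0 ▸ Commute.refl x), e⟩ hno
  · obtain ⟨⟨-, -, -, c1, l1⟩, e1, ⟨-, -, -, c2, l2⟩, e2, -⟩ := CfsgLib.RootConn.four_adj hD hx hy e
    refine ⟨sq_mul x y, hb, ?_, c1, c2, e1.symm, e2.symm, l1, l2, hne⟩
    rw [← inv_eq hD hb, sq_mul, mul_inv_rev, mul_inv_rev, mul_inv_rev, inv_eq hD hx, inv_eq hD hy]
    simp only [mul_assoc]

theorem Four.flip {x y b : G} (hx : x ∈ D) (hy : y ∈ D) (h : Four D x y b) : Four D y x b :=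
  ⟨h.symm_eq.symm, h.mem, h.def_eq.symm, h.comm_right, h.comm_left, h.right_eq, h.left_eq, h.line_right, h.line_left,
    fun e => h.not_comm e.symm⟩

omit hD in
theorem Four.ne_one (hD : IsRootInvolutionSet D) {x y b : G} (h : Four D x y b) : b ≠ 1 :=
  CfsgLib.RootInv.ne_one hD h.mem

/-! ### Members with the same commuting members -/

omit hD in
theorem twin_comm {d δ y : G} (hδ : δ ∈ sameCommutingClass D d) (hy : y ∈ D) : Commute y δ ↔ Commute y d := by
  constructor
  · intro h
    have : y ∈ commutingMembers D δ := ⟨hy, h⟩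
    rw [← hδ.2] at this
    exact this.2
  · intro h
    have : y ∈ commutingMembers D d := ⟨hy, h⟩
    rw [hδ.2] at this
    exact this.2

omit hD in
theorem twin_refl {d : G} (hd : d ∈ D) : d ∈ sameCommutingClass D d := ⟨hd, rfl⟩

omit hD in
theorem twin_comm_self {d δ : G} (hd : d ∈ D) (hδ : δ ∈ sameCommutingClass D d) : Commute d δ :=
  (twin_comm hδ hd).mpr (Commute.refl d)

omit hD in
theorem twin_comm_twin {d δ ε : G} (hd : d ∈ D) (hδ : δ ∈ sameCommutingClass D d)
    (hε : ε ∈ sameCommutingClass D d) : Commute δ ε :=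
  (twin_comm hε hδ.1).mpr (twin_comm_self hd hδ).symm

omit hD in
theorem twin_trans {d δ : G} (hδ : δ ∈ sameCommutingClass D d) :
    sameCommutingClass D δ = sameCommutingClass D d :=
  Set.ext fun _ => ⟨fun h => ⟨h.1, hδ.2.trans h.2⟩, fun h => ⟨h.1, hδ.2.symm.trans h.2⟩⟩

variable [Finite G]

theorem twin_odd {d δ y : G} (hd : d ∈ D) (hδ : δ ∈ sameCommutingClass D d) : OddAdj D δ y ↔ OddAdj D d y := by
  rw [← mem_oddPartners hδ.1, ← mem_oddPartners hd]
  exact ⟨fun h => sameOdd_of_sameComm hD hδ.1 hd hδ.2.symm h, fun h => sameOdd_of_sameComm hD hd hδ.1 hδ.2 h⟩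

theorem twins_conj {d : G} (g : G) :
    (fun x => g * x * g⁻¹) '' sameCommutingClass D d = sameCommutingClass D (g * d * g⁻¹) := by
  have key : ∀ {h a b : G}, a ∈ sameCommutingClass D b →
      h * a * h⁻¹ ∈ sameCommutingClass D (h * b * h⁻¹) := by
    intro h a b ha
    refine ⟨hD.conj_mem a ha.1 h, Set.ext fun y => ?_⟩
    have hyD : y ∈ D → h⁻¹ * y * h ∈ D := fun hy => by
      have := hD.conj_mem y hy h⁻¹
      rwa [inv_inv] at this
    have hc : ∀ c, (y * (h * c * h⁻¹) = h * c * h⁻¹ * y) ↔ (h⁻¹ * y * h) * c = c * (h⁻¹ * y * h) := fun c => by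
      constructor
      · intro e
        calc h⁻¹ * y * h * c = h⁻¹ * (y * (h * c * h⁻¹)) * h := by group
          _ = h⁻¹ * (h * c * h⁻¹ * y) * h := by rw [e]
          _ = _ := by group
      · intro e
        calc y * (h * c * h⁻¹) = h * (h⁻¹ * y * h * c) * h⁻¹ := by group
          _ = h * (c * (h⁻¹ * y * h)) * h⁻¹ := by rw [e]
          _ = _ := by group
    constructor
    · rintro ⟨hy, e⟩
      have : h⁻¹ * y * h ∈ commutingMembers D b := ⟨hyD hy, (hc b).mp e⟩
      rw [ha.2] at this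
      exact ⟨hy, (hc a).mpr this.2⟩
    · rintro ⟨hy, e⟩
      have : h⁻¹ * y * h ∈ commutingMembers D a := ⟨hyD hy, (hc a).mp e⟩
      rw [← ha.2] at this
      exact ⟨hy, (hc b).mpr this.2⟩
  ext x
  constructor
  · rintro ⟨a, ha, rfl⟩
    exact key ha
  · intro hx
    refine ⟨g⁻¹ * x * g, ?_, by group⟩
    have := key (h := g⁻¹) hx
    rwa [inv_inv, show g⁻¹ * (g * d * g⁻¹) * g = d by group] at this

/-! ### Isolated members -/

omit hD in
/-- The isolated members among those commuting with `d`. -/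
def iso (D : Set G) (d : G) : Set G :=
  {w | IsIsolatedElem (OddAdj (commutingMembers D d)) (commutingMembers D d) w}

omit hD in
theorem iso_mem {d w : G} (h : w ∈ iso D d) : w ∈ D := h.1.1

omit hD in
theorem iso_comm {d w : G} (h : w ∈ iso D d) : Commute w d := h.1.2

omit hD in
theorem iso_not_odd {d w y : G} (h : w ∈ iso D d) (hy : y ∈ D) (hyd : Commute y d) : ¬ OddAdj D w y :=
  fun e => (h.2 y).1 ⟨h.1, ⟨hy, hyd⟩, e.2.2⟩

theorem iso_mk {d w : G} (hw : w ∈ D) (hwd : Commute w d)
    (h : ∀ y ∈ D, Commute y d → ¬ OddAdj D w y) : w ∈ iso D d :=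
  ⟨⟨hw, hwd⟩, fun y => ⟨fun e => h y e.2.1.1 e.2.1.2 ⟨hw, e.2.1.1, e.2.2⟩,
    fun e => h y e.1.1 e.1.2 (odd_symm ⟨e.1.1, hw, e.2.2⟩)⟩⟩

theorem self_mem_iso {d : G} (hd : d ∈ D) : d ∈ iso D d :=
  iso_mk hD hd (Commute.refl d) fun _ _ hy h => not_comm_of_odd hD h hy.symm

/-- A member forming a line with a twin of `d` is isolated. -/
theorem line_mem_iso {d δ w : G} (hδ : δ ∈ sameCommutingClass D d) (hw : w ∈ D) (hc : Commute w δ)
    (hl : w * δ ∈ D) : w ∈ iso D d :=
  iso_mk hD hw ((twin_comm hδ hw).mp hc) fun _ hy hyd h =>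
    no_translate hD h (ne_one hD hδ.1) hc.symm ((twin_comm hδ hy).mpr hyd).symm (hc.eq ▸ hl)

theorem twins_sub_iso {d : G} (hd : d ∈ D) : sameCommutingClass D d ⊆ iso D d := fun δ hδ =>
  iso_mk hD hδ.1 (twin_comm_self hd hδ).symm fun _ hy hyd h =>
    not_comm_of_odd hD h ((twin_comm hδ hy).mpr hyd).symm

theorem iso_twin {d y y' : G} (hd : d ∈ D) (hy : y ∈ iso D d) (hy' : y' ∈ sameCommutingClass D y) :
    y' ∈ iso D d :=
  iso_mk hD hy'.1 ((twin_comm hy' hd).mpr (iso_comm hy).symm).symm fun _ hz hzd h =>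
    iso_not_odd hy hz hzd ((twin_odd hD (iso_mem hy) hy').mp h)

theorem iso_congr {d δ : G} (hδ : δ ∈ sameCommutingClass D d) : iso D δ = iso D d := by
  unfold iso
  rw [hδ.2]

theorem iso_conj {d w y : G} (hw : w ∈ iso D d) (hy : y ∈ D) (hyd : Commute y d) :
    y * w * y ∈ iso D d := by
  have hyy := mul_self hD hy
  refine iso_mk hD (conj_mem' hD hy (iso_mem hw)) ?_ fun z hz hzd h => ?_
  · have := ccomm hyy (iso_comm hw)
    rwa [cfix hyy hyd] at this
  · have h' := odd_conj hD y h
    rw [inv_eq hD hy, cflip hyy (rfl : y * w * y = y * w * y)] at h'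
    refine iso_not_odd hw h'.2.1 ?_ h'
    have := ccomm hyy hzd
    rwa [cfix hyy hyd] at this

theorem closure_iso_le_centralizer (d : G) : Subgroup.closure (iso D d) ≤ Subgroup.centralizer {d} :=
  (Subgroup.closure_le _).mpr fun _ hw => Subgroup.mem_centralizer_singleton_iff.mpr (iso_comm hw).eq

/-- The subgroup generated by the isolated members is a two-group. -/
theorem isPGroup_iso {d : G} : IsPGroup 2 (Subgroup.closure (iso D d)) := by
  set E := iso D d with hE
  set T := Subgroup.closure E with hT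
  haveI : Fact (Nat.Prime 2) := ⟨Nat.prime_two⟩
  suffices hle : T ≤ (pCore 2 T).map T.subtype from
    ((CfsgLib.isPGroup_pCore (G := T) 2).map T.subtype).to_le hle
  refine (Subgroup.closure_le _).mpr fun w hw => ?_
  set w' : T := ⟨w, Subgroup.subset_closure hw⟩ with hw'
  have hconj : ∀ g ∈ T, ∀ x ∈ E, g * x * g⁻¹ ∈ E := by
    intro g hg
    have hgen : ∀ y ∈ E, ∀ x ∈ E, y * x * y⁻¹ ∈ E := fun y hy x hx => by
      rw [inv_eq hD (iso_mem hy)]; exact iso_conj hD hx (iso_mem hy) (iso_comm hy)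
    induction hg using Subgroup.closure_induction'' with
    | mem y hy => exact hgen y hy
    | inv_mem y hy =>
      intro x hx
      rw [inv_eq hD (iso_mem hy)]
      exact hgen y hy x hx
    | one => intro x hx; simpa using hx
    | mul y z _ _ h1 h2 =>
      intro x hx
      rw [show y * z * x * (y * z)⁻¹ = y * (z * x * z⁻¹) * y⁻¹ by group]
      exact h1 _ (h2 x hx)
  have hw2 : IsPGroup 2 (Subgroup.zpowers w') := IsPGroup.of_card (n := 1) (by
    rw [Nat.card_zpowers, ← Subgroup.orderOf_coe, pow_one]; exact hD.orderOf_eq w (iso_mem hw))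
  obtain ⟨N, hN, hNp, hle⟩ := Cfsg.Agent.S0199.result (Subgroup.zpowers w') hw2 fun g => by
    rw [MonoidHom.map_zpowers]
    show IsPGroup 2 (Subgroup.zpowers w' ⊔ Subgroup.zpowers (g * w' * g⁻¹) : Subgroup T)
    set y' := g * w' * g⁻¹ with hy'
    have hy : (y' : G) ∈ E := hconj g g.2 w hw
    have hww : w' * w' = 1 := Subtype.ext (mul_self hD (iso_mem hw))
    have hyy : y' * y' = 1 := Subtype.ext (mul_self hD (iso_mem hy))
    have hwi : w'⁻¹ = w' := inv_eq_of_mul_eq_one_right hww
    have hyi : y'⁻¹ = y' := inv_eq_of_mul_eq_one_right hyy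
    have h4 : (w' * y') ^ 4 = 1 := by
      apply Subtype.ext
      show (w * (y' : G)) ^ 4 = 1
      by_cases hcm : Commute w (y' : G)
      · rw [hcm.mul_pow, show w ^ 4 = (w ^ 2) ^ 2 by rw [← pow_mul],
          show (y' : G) ^ 4 = ((y' : G) ^ 2) ^ 2 by rw [← pow_mul], pow_two w, pow_two (y' : G),
          mul_self hD (iso_mem hw), mul_self hD (iso_mem hy), one_pow, one_mul]
      · have hF := four_of hD (iso_mem hw) (iso_mem hy) hcm (iso_not_odd hw (iso_mem hy) (iso_comm hy))
        rw [show (4 : ℕ) = 2 * 2 from rfl, pow_mul, pow_two ((w * (y' : G)) ^ 2), mul_self hD hF.mem]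
    have e' : Subgroup.zpowers w' ⊔ Subgroup.zpowers y' = Subgroup.zpowers w' ⊔ Subgroup.zpowers (w' * y') := by
      refine le_antisymm (sup_le le_sup_left (Subgroup.zpowers_le.mpr ?_))
        (sup_le le_sup_left (Subgroup.zpowers_le.mpr (mul_mem (Subgroup.mem_sup_left (Subgroup.mem_zpowers w'))
          (Subgroup.mem_sup_right (Subgroup.mem_zpowers y')))))
      have h9 : w'⁻¹ * (w' * y') ∈ Subgroup.zpowers w' ⊔ Subgroup.zpowers (w' * y') :=
        mul_mem (inv_mem (Subgroup.mem_sup_left (Subgroup.mem_zpowers w')))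
          (Subgroup.mem_sup_right (Subgroup.mem_zpowers _))
      rwa [inv_mul_cancel_left] at h9
    rw [e']
    have ht : IsPGroup 2 (Subgroup.zpowers (w' * y')) := by
      obtain ⟨j, -, hj⟩ := (Nat.dvd_prime_pow Nat.prime_two).mp
        (show orderOf (w' * y') ∣ 2 ^ 2 from orderOf_dvd_of_pow_eq_one h4)
      exact IsPGroup.of_card (n := j) (by rw [Nat.card_zpowers, hj])
    refine IsPGroup.to_sup_of_normal_right' hw2 ht ?_
    have hm : w' * (w' * y') * w'⁻¹ = (w' * y')⁻¹ := by
      rw [mul_inv_rev, hwi, hyi, ← mul_assoc, hww, one_mul]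
    rw [Subgroup.zpowers_le, Subgroup.mem_normalizer_iff]
    intro x
    constructor
    · rintro ⟨i, rfl⟩
      refine ⟨-i, ?_⟩
      show (w' * y') ^ (-i) = w' * (w' * y') ^ i * w'⁻¹
      rw [← conj_zpow, hm, inv_zpow, zpow_neg]
    · rintro ⟨i, hi⟩
      refine ⟨-i, ?_⟩
      show (w' * y') ^ (-i) = x
      have e2 : x = w'⁻¹ * (w' * y') ^ i * w' := by
        rw [show (w' * y') ^ i = w' * x * w'⁻¹ from hi]; group
      rw [e2, hwi]
      nth_rewrite 4 [← hwi]
      rw [← conj_zpow, hm, inv_zpow, zpow_neg]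
  exact ⟨w', le_sSup (s := {N : Subgroup T | N.Normal ∧ IsPGroup 2 N}) ⟨hN, hNp⟩
    (hle (Subgroup.mem_zpowers w')), rfl⟩

/-- The members in the subgroup generated by the isolated members are isolated. -/
theorem mem_iso_of_mem_closure {d x : G} (hx : x ∈ D) (hN : x ∈ Subgroup.closure (iso D d)) :
    x ∈ iso D d := by
  have hxd : Commute x d := Subgroup.mem_centralizer_singleton_iff.mp (closure_iso_le_centralizer hD d hN)
  refine iso_mk hD hx hxd fun y hy hyd h => ?_
  haveI : Fact (Nat.Prime 2) := ⟨Nat.prime_two⟩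
  have hmap : Subgroup.closure (iso D d) ≤ (Subgroup.closure (iso D d)).comap (MulAut.conj y).toMonoidHom :=
    (Subgroup.closure_le _).mpr fun w hw => by
      show y * w * y⁻¹ ∈ Subgroup.closure (iso D d)
      rw [inv_eq hD hy]
      exact Subgroup.subset_closure (iso_conj hD hw hy hyd)
  have h1 : y * x * y ∈ Subgroup.closure (iso D d) := by
    have := hmap hN
    rw [Subgroup.mem_comap] at this
    simpa [inv_eq hD hy] using this
  have h2 : (x * y) ^ 2 ∈ Subgroup.closure (iso D d) := by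
    rw [sq_mul, show x * y * x * y = x * (y * x * y) by simp only [mul_assoc]]
    exact mul_mem hN h1
  obtain ⟨k, hk⟩ := isPGroup_iso hD (d := d) ⟨_, h2⟩
  have hk' : ((x * y) ^ 2) ^ 2 ^ k = 1 := congrArg Subtype.val hk
  rw [← pow_mul, ← pow_succ'] at hk'
  have := ((Nat.coprime_two_right.mpr h.2.2.2).pow_right _).eq_one_of_dvd (orderOf_dvd_of_pow_eq_one hk')
  exact h.2.2.1 (by rw [← inv_eq hD hx, inv_eq_of_mul_eq_one_right (orderOf_eq_one_iff.mp this)])

/-- Two isolated members commute or their product has order four with isolated square. -/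
theorem iso_pair {d x y : G} (hx : x ∈ iso D d) (hy : y ∈ iso D d) (hne : ¬ Commute x y) :
    Four D x y ((x * y) ^ 2) ∧ (x * y) ^ 2 ∈ iso D d := by
  have h := four_of hD (iso_mem hx) (iso_mem hy) hne (iso_not_odd hx (iso_mem hy) (iso_comm hy))
  exact ⟨h, mem_iso_of_mem_closure hD h.mem
    (pow_mem (mul_mem (Subgroup.subset_closure hx) (Subgroup.subset_closure hy)) 2)⟩

end CfsgLib.RootStruct
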