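import Cfsg.Agent.Lib.RootStruct.Side

/-!
Root involutions: commutators of isolated members are twins, and the structure of the group they generate.
-/

set_option autoImplicit false
set_option linter.unusedSectionVars false

namespace CfsgLib.RootStruct

open Cfsg Relation CfsgLib.RootInv
open scoped commutatorElement

universe u
variable {G : Type u} [Group G] [Finite G] {D : Set G} (H : Hyp D)
include H

theorem line_partner_iso {d e : G} (hd : d ∈ D) (he : e ∈ productPartners D d) : e ∈ iso D d :=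
  line_mem_iso H.cls (twin_refl hd) he.1.1 he.1.2.1 he.2

/-- An isolated member commuting with all line partners of `d` is a twin of `d`. -/
theorem twin_of_central {d u : G} (hd : d ∈ D) (hu : u ∈ iso D d)
    (h : ∀ y ∈ productPartners D d, Commute u y) : u ∈ sameCommutingClass D d := by
  have huD := iso_mem hu
  suffices e : oddPartners D u = oddPartners D d from
    ⟨huD, Set.Subset.antisymm (sameComm_of_sameOdd H.cls H.conn hd huD e.symm)
      (sameComm_of_sameOdd H.cls H.conn huD hd e)⟩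
  by_contra hne
  obtain ⟨p, hup, hdp⟩ := exists_diff H.cls H.conn huD hd hne
  have hp := hup.2.1
  have hdd := mul_self H.cls hd
  have hF := four_of H.cls hp hd (fun e => iso_not_odd hu hp e hup) fun e => hdp (odd_symm e)
  set a := (p * d) ^ 2
  have hda : d * a = p * d * p := hF.right_eq.symm
  have hne' : a ≠ d := fun e => by
    have h1 := conj_mem' H.cls hp hd
    rw [← hda, e, hdd] at h1
    exact ne_one H.cls h1 rfl
  have hX : a ∈ productPartners D d :=
    ⟨⟨hF.mem, hF.comm_right.symm, hne'⟩, hF.comm_right.eq ▸ hF.line_right⟩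
  exact no_translate H.cls (odd_symm hup) (ne_one H.cls hF.mem) hF.comm_left.symm (h a hX).symm
    (hF.comm_left.eq ▸ hF.line_left)

/-- A non-twin isolated member all whose commutators are twins is moved by each twin along a line. -/
theorem moved_by_twins {d g : G} (hd : d ∈ D) (hg : g ∈ iso D d) (hgE : g ∉ sameCommutingClass D d)
    (hP : ∀ w ∈ iso D d, (w * g) ^ 2 ∈ sameCommutingSubgroup D d) :
    ∀ δ ∈ sameCommutingClass D d, ∃ a ∈ iso D d, Four D a g δ := by
  obtain ⟨y, hy, hgy⟩ : ∃ y ∈ productPartners D d, ¬ Commute g y := by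
    by_contra hno
    push Not at hno
    exact hgE (twin_of_central H hd hg hno)
  have hyD := hy.1.1
  have hgD := iso_mem hg
  have hyW := line_partner_iso H hd hy
  have hW : ∀ y' ∈ sameCommutingClass D y, y' ∈ iso D d := fun y' h => iso_twin H.cls hd hyW h
  have hnc : ∀ y' ∈ sameCommutingClass D y, ¬ Commute y' g := fun y' h e =>
    hgy ((twin_comm h hgD).mp e.symm)
  have hsub : (fun y' => (y' * g) ^ 2) '' sameCommutingClass D y ⊆ sameCommutingClass D d := by
    rintro _ ⟨y', h, rfl⟩
    exact twin_of_group H hd (hP y' (hW y' h))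
      ((iso_pair H.cls (hW y' h) hg (hnc y' h)).1.ne_one H.cls)
  have hinj : Set.InjOn (fun y' => (y' * g) ^ 2) (sameCommutingClass D y) := by
    intro y₁ h₁ y₂ h₂ e
    by_contra hne
    have f1 := (iso_pair H.cls (hW y₁ h₁) hg (hnc y₁ h₁)).1
    have f2 := (iso_pair H.cls (hW y₂ h₂) hg (hnc y₂ h₂)).1
    change (y₁ * g) ^ 2 = (y₂ * g) ^ 2 at e
    have e' : y₁ * g * y₁ = y₂ * g * y₂ := by rw [f1.right_eq, f2.right_eq, e]
    have h11 := mul_self H.cls h₁.1
    have h22 := mul_self H.cls h₂.1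
    have hmem : y₁ * y₂ ∈ sameCommutingClass D y := twin_of_group H hyD
      (mul_mem (Subgroup.subset_closure h₁) (Subgroup.subset_closure h₂)) fun h =>
      hne (by rw [← inv_eq H.cls h₂.1]; exact eq_inv_of_mul_eq_one_left h)
    refine hnc _ hmem ?_
    show y₁ * y₂ * g = g * (y₁ * y₂)
    calc y₁ * y₂ * g = y₁ * (y₂ * g * y₂) * y₂ := by simp only [mul_assoc, h22, mul_one]
      _ = y₁ * (y₁ * g * y₁) * y₂ := by rw [e']
      _ = g * (y₁ * y₂) := by simp only [mul_assoc, cancel h11]
  obtain ⟨c, hc⟩ := conj_of_connected H.cls H.conn hd hyD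
  have himg : (fun y' => (y' * g) ^ 2) '' sameCommutingClass D y = sameCommutingClass D d :=
    Set.eq_of_subset_of_ncard_le hsub
      (by rw [hinj.ncard_image, twins_ncard H (x := d) (y := y) ⟨c, hc⟩]) (Set.toFinite _)
  intro δ hδ
  obtain ⟨a, ha, hδa⟩ : δ ∈ (fun y' => (y' * g) ^ 2) '' sameCommutingClass D y := himg.symm ▸ hδ
  exact ⟨a, hW a ha, hδa ▸ (iso_pair H.cls (hW a ha) hg (hnc a ha)).1⟩

theorem sq_swap {d x y : G} (hx : x ∈ iso D d) (hy : y ∈ iso D d) : (x * y) ^ 2 = (y * x) ^ 2 := by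
  by_cases h : Commute x y
  · rw [h.eq]
  · obtain ⟨hF, -⟩ := iso_pair H.cls hx hy h
    rw [← hF.symm_eq, sq_mul y x]

theorem sq_eq_commutator {x y : G} (hx : x ∈ D) (hy : y ∈ D) : ⁅x, y⁆ = (x * y) ^ 2 := by
  rw [commutatorElement_def, inv_eq H.cls hx, inv_eq H.cls hy, sq_mul]

/-- Commutators of isolated members are twins or trivial. -/
theorem pair_twin {d : G} (hd : d ∈ D) :
    ∀ x ∈ iso D d, ∀ y ∈ iso D d, (x * y) ^ 2 ∈ sameCommutingSubgroup D d := by
  classical
  by_contra hbad
  set N := Subgroup.closure (iso D d) with hN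
  haveI : Fact (Nat.Prime 2) := ⟨Nat.prime_two⟩
  haveI : Group.IsNilpotent N := (isPGroup_iso H.cls).isNilpotent
  obtain ⟨n, hn⟩ := (Subgroup.isNilpotent_iff_lowerCentralSeries N).mp inferInstance
  let bad : ℕ → Prop := fun k => ∃ e ∈ iso D d, e ∈ N.lowerCentralSeries k ∧
    ∃ f ∈ iso D d, (e * f) ^ 2 ∉ sameCommutingSubgroup D d
  have h0 : bad 0 := by
    push Not at hbad
    obtain ⟨e, he, f, hf, h⟩ := hbad
    exact ⟨e, he, Subgroup.subset_closure he, f, hf, h⟩
  obtain ⟨k, hk, hk'⟩ : ∃ k, bad k ∧ ¬ bad (k + 1) := by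
    by_contra hno
    push Not at hno
    have hall : ∀ m, bad m := fun m => Nat.rec h0 (fun m hm => hno m hm) m
    obtain ⟨e, he, hen, -⟩ := hall n
    rw [hn, Subgroup.mem_bot] at hen
    exact ne_one H.cls (iso_mem he) hen
  obtain ⟨e, he, hek, f, hf, hef⟩ := hk
  have hnext : ∀ w ∈ iso D d, ∀ x ∈ iso D d, w ∈ N.lowerCentralSeries (k + 1) →
      (x * w) ^ 2 ∈ sameCommutingSubgroup D d := by
    intro w hw x hx hwk
    by_contra h
    rw [sq_swap H hx hw] at h
    exact hk' ⟨w, hw, hwk, x, hx, h⟩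
  have hcomm : ∀ x ∈ iso D d, (x * e) ^ 2 ∈ N.lowerCentralSeries (k + 1) := by
    intro x hx
    rw [sq_swap H hx he, Subgroup.lowerCentralSeries_succ, ← sq_eq_commutator H (iso_mem he) (iso_mem hx)]
    exact Subgroup.commutator_mem_commutator hek (Subgroup.subset_closure hx : x ∈ N)
  have hnc : ¬ Commute e f := fun h => hef (by
    rw [h.mul_pow, pow_two, pow_two, mul_self H.cls (iso_mem he), mul_self H.cls (iso_mem hf), one_mul]
    exact one_mem _)
  obtain ⟨hF, hgW⟩ := iso_pair H.cls he hf hnc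
  set g := (e * f) ^ 2 with hg
  have hgk : g ∈ N.lowerCentralSeries (k + 1) := by rw [hg, sq_swap H he hf]; exact hcomm f hf
  have hP : ∀ w ∈ iso D d, (w * g) ^ 2 ∈ sameCommutingSubgroup D d := fun w hw => hnext g hgW w hw hgk
  obtain ⟨a, haW, ha⟩ := moved_by_twins H hd hgW
    (fun h => hef (Subgroup.subset_closure h)) hP d (twin_refl hd)
  have S : Setup D d e f g a := ⟨hd, he, hf, hgW, haW, hF, ha.left_eq, ha.line_left⟩
  obtain ⟨hS, hsW⟩ := S.fourS H
  obtain ⟨hJ, hjW⟩ := (S.swap H).fourS H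
  set s := (a * e) ^ 2 with hs
  set j := (a * f) ^ 2 with hj
  have hu : (s * f) ^ 2 ∈ sameCommutingSubgroup D d := by
    rw [sq_swap H hsW hf]; exact hnext s hsW f hf (hcomm a haW)
  obtain ⟨-, ht⟩ := S.identities H (by rw [← hs]; exact hu)
  rw [← hs, ← hj] at ht
  have hdd := mul_self H.cls hd
  have hud : (s * f) ^ 2 * d ∈ sameCommutingSubgroup D d := mul_mem hu (self_mem_twinGroup H hd)
  obtain ⟨p, hp, hpa, hdpd, hpdp, hpg, hbr⟩ :=
    exists_partner H hd (iso_mem haW) (iso_comm haW) ha.line_left (iso_mem hgW) (iso_comm hgW) ha.left_eq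
  have side : ∀ {e' f' t : G}, Setup D d e' f' g a → OddAdj D p e' → t = (((a * f') ^ 2) * e') ^ 2 →
      t ∈ sameCommutingSubgroup D d → t ≠ 1 → False := by
    intro e' f' t S' hpe htdef ht' ht1
    refine S'.not_side H hP hpa hpdp hpg hbr hpe (twin_of_group H hd ht' ht1) ?_
    have hjj := ((S'.swap H).fourS H).1
    have he' := iso_mem S'.he
    have e2 : t * e' = (a * f') ^ 2 * e' * (a * f') ^ 2 := by
      rw [htdef, sq_mul ((a * f') ^ 2) e', mul_assoc _ e' e', mul_self H.cls he', mul_one]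
    rw [(twinGroup_comm H hd ht' he' (iso_comm S'.he)).eq, e2]
    exact conj_mem' H.cls hjj.mem he'
  have hsideF : OddAdj D p f → (s * f) ^ 2 ≠ 1 → False := fun h h1 =>
    side (S.swap H) h rfl hu h1
  by_cases hpe : OddAdj D p e
  · by_cases ht1 : (j * e) ^ 2 = 1
    · have hud' : (s * f) ^ 2 = d := by
        rw [ht1] at ht
        rw [← inv_eq H.cls hd]; exact eq_inv_of_mul_eq_one_left ht.symm
      by_cases hpf : OddAdj D p f
      · exact hsideF hpf (hud'.symm ▸ ne_one H.cls hd)
      · have := (S.swap H).good H (by rw [ht]; exact hud) hpa hdpd hpg hbr hpf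
        exact ne_one H.cls hd (this.symm.trans ht1)
    · exact side S hpe rfl (by rw [ht]; exact hud) ht1
  · have hud' := S.good H hu hpa hdpd hpg hbr hpe
    by_cases hpf : OddAdj D p f
    · exact hsideF hpf (hud'.symm ▸ ne_one H.cls hd)
    · have := (S.swap H).good H (by rw [ht]; exact hud) hpa hdpd hpg hbr hpf
      rw [← hj, ht, show (s * f) ^ 2 = d from hud', hdd] at this
      exact ne_one H.cls hd this.symm

theorem iso_eq {d : G} (hd : d ∈ D) : iso D d = productPartners D d ∪ {d} := by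
  ext w
  constructor
  · intro hw
    by_cases h : w = d
    · exact Or.inr h
    refine Or.inl ⟨⟨iso_mem hw, iso_comm hw, h⟩, ?_⟩
    by_cases hwE : w ∈ sameCommutingClass D d
    · have hmem : w * d ∈ sameCommutingSubgroup D d :=
        mul_mem (Subgroup.subset_closure hwE) (self_mem_twinGroup H hd)
      exact (twin_of_group H hd hmem fun e => h (by
        rw [← inv_eq H.cls hd]; exact eq_inv_of_mul_eq_one_left e)).1
    · obtain ⟨a, -, ha⟩ := moved_by_twins H hd hw hwE (fun x hx => pair_twin H hd x hx w hw) d (twin_refl hd)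
      exact ha.line_right
  · rintro (h | h)
    · exact line_partner_iso H hd h
    · rw [Set.mem_singleton_iff] at h
      rw [h]; exact self_mem_iso H.cls hd

theorem exists_nontwin {d v : G} (hd : d ∈ D) (hv : v ∈ D) (h4 : orderOf (d * v) = 4) :
    ∃ u ∈ iso D d, u ∉ sameCommutingClass D d := by
  obtain ⟨⟨-, hf, -, hc, hl⟩, -, ⟨-, -, -, hvf, -⟩, -, hne⟩ := CfsgLib.RootConn.four_adj H.cls hd hv h4
  refine ⟨_, line_mem_iso H.cls (twin_refl hd) hf (show Commute _ d from hc.symm) (hc ▸ hl), fun hE => hne ?_⟩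
  exact ((twin_comm hE hv).mp hvf).symm

/-- The commutator subgroup of the group generated by the isolated members. -/
theorem commutator_iso {d v : G} (hd : d ∈ D) (hv : v ∈ D) (h4 : orderOf (d * v) = 4) :
    ⁅Subgroup.closure (iso D d), Subgroup.closure (iso D d)⁆ = sameCommutingSubgroup D d := by
  set S := sameCommutingSubgroup D d with hS
  set N := Subgroup.closure (iso D d) with hN
  refine le_antisymm ?_ ((Subgroup.closure_le _).mpr fun δ hδ => ?_)
  · have hcent : ∀ x ∈ N, ∀ z ∈ S, x * z * x⁻¹ = z := by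
      intro x hx z hz
      have h1 : N ≤ Subgroup.centralizer {z} := (Subgroup.closure_le _).mpr fun w hw =>
        Subgroup.mem_centralizer_singleton_iff.mpr (twinGroup_comm H hd hz (iso_mem hw) (iso_comm hw)).eq
      rw [Subgroup.mem_centralizer_singleton_iff.mp (h1 hx), mul_inv_cancel_right]
    have key : ∀ y, (∀ w ∈ iso D d, ⁅w, y⁆ ∈ S) → ∀ x ∈ N, ⁅x, y⁆ ∈ S := by
      intro y hy x hx
      induction hx using Subgroup.closure_induction'' with
      | mem w hw => exact hy w hw
      | inv_mem w hw => rw [inv_eq H.cls (iso_mem hw)]; exact hy w hw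
      | one => rw [commutatorElement_one_left]; exact one_mem _
      | mul x z hx _ ihx ihz =>
        rw [show ⁅x * z, y⁆ = (x * ⁅z, y⁆ * x⁻¹) * ⁅x, y⁆ by simp only [commutatorElement_def]; group,
          hcent x hx _ ihz]
        exact mul_mem ihz ihx
    refine Subgroup.commutator_le.mpr fun x hx y hy => key y (fun w hw => ?_) x hx
    rw [← commutatorElement_inv]
    refine inv_mem (key w (fun w' hw' => ?_) y hy)
    rw [sq_eq_commutator H (iso_mem hw') (iso_mem hw)]
    exact pair_twin H hd w' hw' w hw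
  · obtain ⟨u, hu, hnt⟩ := exists_nontwin H hd hv h4
    obtain ⟨a, haW, ha⟩ := moved_by_twins H hd hu hnt (fun x hx => pair_twin H hd x hx u hu) δ hδ
    have h1 : ⁅a, u⁆ ∈ ⁅N, N⁆ :=
      Subgroup.commutator_mem_commutator (Subgroup.subset_closure haW) (Subgroup.subset_closure hu)
    rwa [sq_eq_commutator H (iso_mem haW) (iso_mem hu), sq_mul, ← ha.def_eq] at h1

end CfsgLib.RootStruct
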