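import Cfsg.Agent.Lib.RootStruct.Basic

/-!
Root involutions: the configuration of a non-central commutator of isolated members, and its first consequences.
-/

set_option autoImplicit false
set_option linter.unusedSectionVars false

namespace CfsgLib.RootStruct

open Cfsg Relation CfsgLib.RootInv

universe u
variable {G : Type u} [Group G] [Finite G] {D : Set G}

/-- A class of root involutions in which the twins of each member form a group with the identity. -/
structure Hyp (D : Set G) : Prop where
  cls : IsRootInvolutionSet D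
  conn : IsConnectedSet (OddAdj D) D
  grp : ∀ d ∈ D, (sameCommutingSubgroup D d : Set G) = sameCommutingClass D d ∪ {1}

variable (H : Hyp D)
include H

theorem mem_twinGroup {d x : G} (hd : d ∈ D) :
    x ∈ sameCommutingSubgroup D d ↔ x ∈ sameCommutingClass D d ∨ x = 1 := by
  rw [← SetLike.mem_coe, H.grp d hd, Set.mem_union, Set.mem_singleton_iff]

theorem twinGroup_comm {d x y : G} (hd : d ∈ D) (hx : x ∈ sameCommutingSubgroup D d) (hy : y ∈ D)
    (hyd : Commute y d) : Commute y x := by
  rcases (mem_twinGroup H hd).mp hx with h | rfl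
  · exact (twin_comm h hy).mpr hyd
  · exact Commute.one_right y

theorem twinGroup_sq {d x : G} (hd : d ∈ D) (hx : x ∈ sameCommutingSubgroup D d) : x * x = 1 := by
  rcases (mem_twinGroup H hd).mp hx with h | rfl
  · exact mul_self H.cls h.1
  · exact mul_one 1

theorem twin_of_group {d x : G} (hd : d ∈ D) (hx : x ∈ sameCommutingSubgroup D d) (hx1 : x ≠ 1) :
    x ∈ sameCommutingClass D d :=
  ((mem_twinGroup H hd).mp hx).resolve_right hx1

theorem self_mem_twinGroup {d : G} (hd : d ∈ D) : d ∈ sameCommutingSubgroup D d :=
  Subgroup.subset_closure (twin_refl hd)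

theorem twins_cconj {c x δ : G} (hc : c ∈ D) (hδ : δ ∈ sameCommutingClass D x) :
    c * δ * c ∈ sameCommutingClass D (c * x * c) := by
  have h : (fun z => c * z * c⁻¹) δ ∈ (fun z => c * z * c⁻¹) '' sameCommutingClass D x := ⟨δ, hδ, rfl⟩
  rw [twins_conj H.cls] at h
  simpa only [inv_eq H.cls hc] using h

theorem braid {x y : G} (hx : x ∈ D) (hy : y ∈ D) (h : orderOf (x * y) = 3) : x * y * x = y * x * y := by
  have hxx := mul_self H.cls hx
  have hyy := mul_self H.cls hy
  have e : (x * y) ^ 3 = 1 := by rw [← h]; exact pow_orderOf_eq_one _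
  calc x * y * x = (x * y) ^ 3 * (y * x * y) := by
        simp only [pow_succ, pow_zero, one_mul, mul_assoc, cancel hxx, cancel hyy, hyy, mul_one]
    _ = y * x * y := by rw [e, one_mul]

theorem odd_of_three {x y : G} (hx : x ∈ D) (hy : y ∈ D) (h : orderOf (x * y) = 3) : OddAdj D x y :=
  ⟨hx, hy, fun e => by rw [e, mul_self H.cls hy, orderOf_one] at h; omega, h ▸ ⟨1, rfl⟩⟩

/-- A member whose partners with odd product differ from those of a line partner yields a flipping member. -/
theorem exists_flipping {a b : G} (ha : a ∈ D) (hb : b ∈ D) (hab : Commute a b) (hl : a * b ∈ D)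
    (hne : oddPartners D a ≠ oddPartners D b) :
    ∃ v ∈ D, Commute v b ∧ a * v * a = b * v ∧ v * a * v = a * b := by
  obtain ⟨p, hp, hp'⟩ := exists_diff H.cls H.conn ha hb hne
  obtain ⟨v, hv, hvb, hav⟩ := CfsgLib.RootInv.flip H.cls hb hab.eq hl hp hp'
  have haa := mul_self H.cls ha
  have hvv := mul_self H.cls hv
  refine ⟨v, hv, hvb, ?_, ?_⟩
  · conv_rhs => rw [← hav]
    rw [mul_assoc (a * v * a), hvv, mul_one]
  · conv_rhs => rw [← hav]
    simp only [mul_assoc, cancel haa]

/-- The member interchanging the two ends of the line through `d` and `a`. -/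
theorem exists_partner {d a g : G} (hd : d ∈ D) (ha : a ∈ D) (had : Commute a d) (hal : a * d ∈ D)
    (hg : g ∈ D) (hgd : Commute g d) (hga : g * a * g = a * d) :
    ∃ p ∈ D, Commute p a ∧ d * p * d = a * p ∧ p * d * p = d * a ∧ OddAdj D p g ∧ p * g * p = g * p * g := by
  have hgg := mul_self H.cls hg
  have hne : oddPartners D d ≠ oddPartners D a := by
    intro e
    have h1 : g ∈ commutingMembers D a := sameComm_of_sameOdd H.cls H.conn hd ha e ⟨hg, hgd⟩
    have h2 : a = a * d := (cfix hgg h1.2).symm.trans hga
    exact ne_one H.cls hd (mul_left_cancel (h2.symm.trans (mul_one a).symm))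
  obtain ⟨p, hp, hpa, h1, h2⟩ := exists_flipping H hd ha had.symm (had.eq ▸ hal) hne
  have hda : d ≠ a := fun e => hne (by rw [e])
  have h3 := order_three H.cls hp hg (ne_one H.cls hd) (ne_one H.cls ha) (mul_self H.cls hd) hda had.symm hd h2
    hpa hga hgd
  exact ⟨p, hp, hpa, h1, h2, odd_of_three H hp hg h3, braid H hp hg h3⟩

theorem partner_not_comm {e g p : G} (he : e ∈ D) (hge : Commute g e) (heg : e * g ∈ D)
    (hpg : OddAdj D p g) : ¬ Commute p e := fun h =>
  no_translate H.cls (odd_symm hpg) (ne_one H.cls he) hge.symm h.symm heg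

/-- The first step: a partner with product of order four with `e`. -/
theorem four_step {e f g p i : G} (he : e ∈ D) (hf : f ∈ D) (hg : g ∈ D) (hge : Commute g e)
    (hgf : Commute g f) (heg : e * g ∈ D) (hfef : f * e * f = e * g) (hpg : OddAdj D p g)
    (hbr : p * g * p = g * p * g) (hI : Four D p e i) :
    i * g * i = g * e ∧ orderOf (i * f) = 3 := by
  have hp := hpg.1
  have hee := mul_self H.cls he
  have hgg := mul_self H.cls hg
  have hpp := mul_self H.cls hp
  have hii := mul_self H.cls hI.mem
  set A := p * e * p with hAdef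
  have hA : A = e * i := hI.right_eq
  set B := g * A * g with hBdef
  have hAe : Commute e A := by rw [hA]; exact (Commute.refl e).mul_right hI.comm_right
  have hBe : Commute e B := by
    have := ccomm hgg hAe
    rwa [cfix hgg hge] at this
  have hpB : p * B * p = B := by
    calc p * B * p = (p * g * p) * e * (p * g * p) := by rw [hBdef, hAdef]; simp only [mul_assoc]
      _ = (g * p * g) * e * (g * p * g) := by rw [hbr]
      _ = g * p * (g * e * g) * p * g := by simp only [mul_assoc]
      _ = B := by rw [cfix hgg hge, hBdef, hAdef]; simp only [mul_assoc]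
  have hAB : Commute A B := by
    have := ccomm hpp hBe
    rwa [← hAdef, hpB] at this
  set z := e * A * B with hzdef
  have hzg : Commute z g := by
    refine (comm_of_cfix hgg ?_).symm
    rw [hzdef, cmul hgg, cmul hgg, cfix hgg hge, ← hBdef, cflip hgg hBdef.symm, mul_assoc, ← hAB.eq, ← mul_assoc]
  have hzp : Commute z p := by
    refine (comm_of_cfix hpp ?_).symm
    rw [hzdef, cmul hpp, cmul hpp, hpB, ← hAdef, cflip hpp hAdef.symm, ← hAe.eq]
  have hzg' : z * g = i * (g * e) * i := by
    calc z * g = e * A * g * A := by rw [hzdef, hBdef]; simp only [mul_assoc, hgg, mul_one]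
      _ = i * g * (e * i) := by rw [hA]; simp only [mul_assoc, cancel hee]
      _ = i * (g * e) * i := by simp only [mul_assoc]
  have hz : z = 1 := by
    by_contra hz1
    refine no_translate H.cls (odd_symm hpg) hz1 hzg hzp ?_
    rw [hzg']
    exact conj_mem' H.cls hI.mem (hge.eq ▸ heg)
  rw [hz, one_mul] at hzg'
  have higi : i * g * i = g * e := cflip hii hzg'.symm
  refine ⟨higi, order_three H.cls hI.mem hf (ne_one H.cls hg) (ne_one H.cls he) hgg ?_ hge hg higi hI.comm_right.symm
    hfef hgf.symm⟩
  intro e0
  rw [e0, hee] at higi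
  apply ne_one H.cls he
  calc e = i * (i * e * i) * i := by simp only [mul_assoc, cancel hii, hii, mul_one]
    _ = 1 := by rw [higi, mul_one, hii]

/-- A line partner of `d` commuting with `e` cannot be moved along its line by the commutator of `e` and `f`. -/
theorem no_commuting {d e f g a : G} (hd : d ∈ D) (he : e ∈ D) (hed : Commute e d) (hf : f ∈ iso D d)
    (hfef : f * e * f = e * g) (hg : g ∈ D) (hgd : Commute g d) (hge : Commute g e) (hgf : Commute g f)
    (heg : e * g ∈ D) (ha : a ∈ D) (had : Commute a d) (hal : a * d ∈ D) (hga : g * a * g = a * d)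
    (hae : Commute a e) : False := by
  obtain ⟨p, hp, hpa, hdpd, hpdp, hpg, hbr⟩ := exists_partner H hd ha had hal hg hgd hga
  have hnc := partner_not_comm H he hge heg hpg
  have hno : ¬ OddAdj D p e := fun h =>
    no_translate H.cls h (ne_one H.cls ha) hpa.symm hae (hdpd ▸ conj_mem' H.cls hd hp)
  have hI := four_of H.cls hp he hnc hno
  obtain ⟨-, h3⟩ := four_step H he (iso_mem hf) hg hge hgf heg hfef hpg hbr hI
  have hdd := mul_self H.cls hd
  have hid : Commute ((p * e) ^ 2) d := by
    refine (comm_of_cfix hdd ?_).symm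
    have hpep : d * (p * e * p) * d = p * e * p := by
      calc d * (p * e * p) * d = (d * p * d) * (d * e * d) * (d * p * d) := by
            simp only [mul_assoc, cancel hdd]
        _ = (p * a) * e * (a * p) := by rw [hdpd, cfix hdd hed.symm]; nth_rewrite 1 [← hpa.eq]; rfl
        _ = p * (a * e * a) * p := by simp only [mul_assoc]
        _ = p * e * p := by rw [cfix (mul_self H.cls ha) hae]
    rw [sq_mul, show p * e * p * e = (p * e * p) * e from rfl, cmul hdd, hpep, cfix hdd hed.symm]
  exact iso_not_odd hf hI.mem hid (odd_symm (odd_of_three H hI.mem (iso_mem hf) h3))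

/-- The configuration. -/
structure Setup (D : Set G) (d e f g a : G) : Prop where
  hd : d ∈ D
  he : e ∈ iso D d
  hf : f ∈ iso D d
  hg : g ∈ iso D d
  ha : a ∈ iso D d
  four : Four D e f g
  hga : g * a * g = a * d
  hal : a * d ∈ D

theorem Setup.swap {d e f g a : G} (S : Setup D d e f g a) : Setup D d f e g a :=
  ⟨S.hd, S.hf, S.he, S.hg, S.ha, S.four.flip H.cls (iso_mem S.he) (iso_mem S.hf), S.hga, S.hal⟩

theorem Setup.not_comm {d e f g a : G} (S : Setup D d e f g a) : ¬ Commute a e := fun h =>
  no_commuting H S.hd (iso_mem S.he) (iso_comm S.he) S.hf S.four.left_eq S.four.mem (iso_comm S.hg)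
    S.four.comm_left.symm S.four.comm_right.symm S.four.line_left (iso_mem S.ha) (iso_comm S.ha) S.hal S.hga h

theorem Setup.fourS {d e f g a : G} (S : Setup D d e f g a) :
    Four D a e ((a * e) ^ 2) ∧ (a * e) ^ 2 ∈ iso D d :=
  iso_pair H.cls S.ha S.he (S.not_comm H)

theorem Setup.g_comm_s {d e f g a : G} (S : Setup D d e f g a) : Commute g ((a * e) ^ 2) := by
  have hgg := mul_self H.cls S.four.mem
  have hdd := mul_self H.cls S.hd
  have hge : Commute g e := S.four.comm_left.symm
  refine comm_of_cfix hgg ?_
  rw [sq_mul, cmul hgg, cmul hgg, cmul hgg, cfix hgg hge, S.hga]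
  calc a * d * e * (a * d) * e = a * (d * e) * (a * d) * e := by simp only [mul_assoc]
    _ = a * e * (d * a) * d * e := by rw [← (iso_comm S.he).eq]; simp only [mul_assoc]
    _ = a * e * a * (d * d) * e := by rw [← (iso_comm S.ha).eq]; simp only [mul_assoc]
    _ = a * e * a * e := by rw [hdd, mul_one]

/-- The basic identity. -/
theorem identity {d a e f g s j u : G} (hd : d * d = 1) (ha : a * a = 1) (he : e * e = 1) (hf : f * f = 1)
    (hs : s * s = 1) (hg : e * f * e * f = g) (hg' : f * e * f * e = g) (hga : g * a * g = a * d)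
    (hed : Commute e d) (hfd : Commute f d) (heae : e * a * e = a * s) (hfaf : f * a * f = a * j)
    (hfsf : f * s * f = s * u) (hsj : Commute s j) : e * j * e = j * u * d := by
  have h1 : e * (f * (e * (f * a * f) * e) * f) * e = a * d := by
    calc e * (f * (e * (f * a * f) * e) * f) * e = (e * f * e * f) * a * (f * e * f * e) := by
          simp only [mul_assoc]
      _ = a * d := by rw [hg, hg', hga]
  have h2 : f * (e * (f * a * f) * e) * f = a * s * d := by
    rw [← cflip he h1, cmul he, heae, cfix he hed]
  have h3 : e * (f * a * f) * e = a * j * (s * u) * d := by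
    rw [← cflip hf h2, cmul hf, cmul hf, hfaf, hfsf, cfix hf hfd]
  rw [hfaf, cmul he, heae] at h3
  calc e * j * e = s * (a * (a * s * (e * j * e))) := by simp only [mul_assoc, cancel ha, cancel hs]
    _ = s * (a * (a * j * (s * u) * d)) := by rw [h3]
    _ = (s * j * s) * u * d := by simp only [mul_assoc, cancel ha]
    _ = j * u * d := by rw [cfix hs hsj]

theorem Setup.identities {d e f g a : G} (S : Setup D d e f g a)
    (hu : (((a * e) ^ 2) * f) ^ 2 ∈ sameCommutingSubgroup D d) :
    e * (a * f) ^ 2 * e = (a * f) ^ 2 * (((a * e) ^ 2) * f) ^ 2 * d ∧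
    ((((a * f) ^ 2) * e) ^ 2 = (((a * e) ^ 2) * f) ^ 2 * d) := by
  obtain ⟨hS, hsW⟩ := S.fourS H
  obtain ⟨hJ, hjW⟩ := (S.swap H).fourS H
  set s := (a * e) ^ 2 with hs
  set j := (a * f) ^ 2 with hj
  set u := (s * f) ^ 2 with hu'
  have hff := mul_self H.cls (iso_mem S.hf)
  have haa := mul_self H.cls (iso_mem S.ha)
  have hss := mul_self H.cls hS.mem
  have hfsf : f * s * f = s * u := by
    rw [hu', sq_mul]
    simp only [mul_assoc, cancel hss]
  have hfu : f * u * f = u := cfix hff (twinGroup_comm H S.hd hu (iso_mem S.hf) (iso_comm S.hf))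
  have hau : a * u * a = u := cfix haa (twinGroup_comm H S.hd hu (iso_mem S.ha) (iso_comm S.ha))
  have has : a * s * a = s := cfix haa hS.comm_left
  have hsj : Commute s j := by
    refine (comm_of_cfix (mul_self H.cls hJ.mem) ?_).symm
    calc j * s * j = (a * f * a * f) * s * (f * a * f * a) := by rw [hJ.symm_eq, ← hJ.def_eq]
      _ = a * (f * (a * (f * s * f) * a) * f) * a := by simp only [mul_assoc]
      _ = s := by
        rw [hfsf, show a * (s * u) * a = s * u by rw [cmul haa, has, hau],
          show f * (s * u) * f = s by rw [cmul hff, hfsf, hfu, mul_assoc, twinGroup_sq H S.hd hu, mul_one], has]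
  have h := identity H (mul_self H.cls S.hd) haa (mul_self H.cls (iso_mem S.he)) hff hss S.four.def_eq.symm
    S.four.symm_eq S.hga (iso_comm S.he) (iso_comm S.hf) hS.left_eq hJ.left_eq hfsf hsj
  refine ⟨h, ?_⟩
  rw [sq_mul, mul_assoc j e, mul_assoc j, show e * j * e = j * u * d from h]
  simp only [mul_assoc, cancel (mul_self H.cls hJ.mem)]

/-- A partner with product of order four with `e` forces the twin to be `d`. -/
theorem Setup.good {d e f g a p : G} (S : Setup D d e f g a)
    (hu : (((a * e) ^ 2) * f) ^ 2 ∈ sameCommutingSubgroup D d) (hpa : Commute p a) (hdpd : d * p * d = a * p)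
    (hpg : OddAdj D p g) (hbr : p * g * p = g * p * g) (hno : ¬ OddAdj D p e) :
    (((a * e) ^ 2) * f) ^ 2 = d := by
  obtain ⟨hS, hsW⟩ := S.fourS H
  set s := (a * e) ^ 2 with hs
  set u := (s * f) ^ 2 with hu'
  have he := iso_mem S.he
  have hf := iso_mem S.hf
  have hee := mul_self H.cls he
  have hff := mul_self H.cls hf
  have hdd := mul_self H.cls S.hd
  have hgg := mul_self H.cls S.four.mem
  have hpp := mul_self H.cls hpg.1
  have haa := mul_self H.cls (iso_mem S.ha)
  have hss := mul_self H.cls hS.mem
  have hI := four_of H.cls hpg.1 he (partner_not_comm H he S.four.comm_left.symm S.four.line_left hpg) hno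
  set i := (p * e) ^ 2 with hi
  have hii := mul_self H.cls hI.mem
  obtain ⟨higi, h3⟩ := four_step H he hf S.four.mem S.four.comm_left.symm S.four.comm_right.symm S.four.line_left
    S.four.left_eq hpg hbr hI
  have hif := odd_of_three H hI.mem hf h3
  have hidc : ¬ Commute i d := fun h => iso_not_odd S.hf hI.mem h (odd_symm hif)
  have hido : ¬ OddAdj D i d := fun h => by
    refine no_translate H.cls h (ne_one H.cls he) hI.comm_right (iso_comm S.he) ?_
    rw [← hI.right_eq]
    exact conj_mem' H.cls hpg.1 he
  have hK := four_of H.cls hI.mem S.hd hidc hido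
  set k := (i * d) ^ 2 with hk
  have hek : Commute e k := by
    rw [hK.def_eq]
    exact ((hI.comm_right.mul_right (iso_comm S.he)).mul_right hI.comm_right).mul_right (iso_comm S.he)
  have hie : p * e * p = i * e := hI.right_eq.trans hI.comm_right.eq
  have e1 : d * i * d = i * (e * (p * s * p) * e) := by
    calc d * i * d = (d * p * d) * (d * e * d) * (d * p * d) * (d * e * d) := by
          rw [hI.def_eq]; simp only [mul_assoc, cancel hdd]
      _ = (p * a) * e * (a * p) * e := by
          rw [hdpd, cfix hdd (iso_comm S.he).symm]; nth_rewrite 1 [← hpa.eq]; rfl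
      _ = p * (a * e * a) * p * e := by simp only [mul_assoc]
      _ = (p * e * p) * (p * s * p) * e := by rw [hS.right_eq]; simp only [mul_assoc, cancel hpp]
      _ = i * (e * (p * s * p) * e) := by rw [hie]; simp only [mul_assoc]
  rw [hK.left_eq] at e1
  have hpsp : p * s * p = k := by
    rw [← cflip hee (mul_left_cancel e1).symm, cfix hee hek]
  have hgig : g * i * g = i * e := by
    calc g * i * g = i * ((i * g * i) * g) := by simp only [mul_assoc, cancel hii]
      _ = i * e := by
        rw [higi, mul_assoc g e g, ← S.four.comm_left.symm.eq, cancel hgg]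
  have hgk : g * k * g = k := by
    rw [hK.def_eq, cmul hgg, cmul hgg, cmul hgg, hgig, cfix hgg (iso_comm S.hg)]
    calc i * e * d * (i * e) * d = i * (e * (d * i)) * (e * d) := by simp only [mul_assoc]
      _ = i * (d * i * e) * (e * d) := by rw [((iso_comm S.he).mul_right hI.comm_right).eq]
      _ = i * d * i * d := by simp only [mul_assoc, cancel hee]
  have hks : k = s := by
    have hgs : g * s * g = s := cfix hgg (S.g_comm_s H)
    calc k = g * k * g := hgk.symm
      _ = g * p * (g * s * g) * p * g := by rw [hgs, ← hpsp]; simp only [mul_assoc]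
      _ = (g * p * g) * s * (g * p * g) := by simp only [mul_assoc]
      _ = (p * g * p) * s * (p * g * p) := by rw [hbr]
      _ = p * (g * (p * s * p) * g) * p := by simp only [mul_assoc]
      _ = p * k * p := by rw [hpsp, hgk]
      _ = s := cflip hpp hpsp
  rw [hks] at hK
  have hfsf : f * s * f = s * u := by
    rw [hu', sq_mul]
    simp only [mul_assoc, cancel hss]
  have hfd := cfix hff (iso_comm S.hf)
  have hidi : i * d * i = d * s := hK.right_eq
  have hisi : i * s * i = s := cfix hii hK.comm_left
  have hiui : i * u * i = s * u := by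
    have hfif : i * f * i = f * i * f := braid H hI.mem hf h3
    have key : i * (f * (i * d * i) * f) * i = f * (i * (f * d * f) * i) * f := by
      calc i * (f * (i * d * i) * f) * i = (i * f * i) * d * (i * f * i) := by simp only [mul_assoc]
        _ = (f * i * f) * d * (f * i * f) := by rw [hfif]
        _ = f * (i * (f * d * f) * i) * f := by simp only [mul_assoc]
    have hfds : f * (d * s) * f = d * s * u := by rw [cmul hff, hfd, hfsf, mul_assoc]
    rw [hfd, hidi, hfds, cmul hii, cmul hii, hidi, hisi, mul_assoc d s s, hss, mul_one, mul_assoc d s u] at key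
    exact mul_left_cancel key
  have hidu : i * (d * u) * i = d * u := by
    rw [cmul hii, hidi, hiui]; simp only [mul_assoc, cancel hss]
  have hmem : d * u ∈ sameCommutingSubgroup D d := mul_mem (self_mem_twinGroup H S.hd) hu
  rcases (mem_twinGroup H S.hd).mp hmem with h | h
  · exact absurd ((twin_comm h hI.mem).mp (comm_of_cfix hii hidu)) hidc
  · calc u = d * (d * u) := (cancel hdd u).symm
      _ = d := by rw [h, mul_one]

end CfsgLib.RootStruct
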