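import Cfsg.Agent.Lib.RootStruct.Twin

/-!
Root involutions: the configuration in which the flipping member is opposite to `e`.
-/

set_option autoImplicit false
set_option linter.unusedSectionVars false

namespace CfsgLib.RootStruct

open Cfsg Relation CfsgLib.RootInv

universe u
variable {G : Type u} [Group G] [Finite G] {D : Set G} (H : Hyp D)
include H

theorem twins_ncard {x y : G} (h : ∃ c, y = c * x * c⁻¹) :
    (sameCommutingClass D y).ncard = (sameCommutingClass D x).ncard := by
  obtain ⟨c, rfl⟩ := h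
  rw [← twins_conj H.cls c]
  exact Set.ncard_image_of_injective _ fun p q e => mul_left_cancel (mul_right_cancel e)

/-- A flipping member opposite to `e` excludes a twin forming a line with `e`. -/
theorem Setup.not_side {d e f g a p t : G} (S : Setup D d e f g a)
    (hP : ∀ w ∈ iso D d, (w * g) ^ 2 ∈ sameCommutingSubgroup D d) (hpa : Commute p a)
    (hpdp : p * d * p = d * a) (hpg : OddAdj D p g) (hbr : p * g * p = g * p * g) (hpe : OddAdj D p e)
    (ht : t ∈ sameCommutingClass D d) (het : e * t ∈ D) : False := by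
  classical
  have hd := S.hd
  have he := iso_mem S.he
  have ha := iso_mem S.ha
  have hg := S.four.mem
  have hp := hpg.1
  have hdd := mul_self H.cls hd
  have hee := mul_self H.cls he
  have haa := mul_self H.cls ha
  have hgg := mul_self H.cls hg
  have hpp := mul_self H.cls hp
  have had : Commute a d := iso_comm S.ha
  have hgd : Commute g d := iso_comm S.hg
  have hge : Commute g e := S.four.comm_left.symm
  have hpd : ¬ Commute p d := fun h => by
    rw [cfix hpp h] at hpdp
    exact ne_one H.cls ha (mul_left_cancel (hpdp.symm.trans (mul_one d).symm))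
  set T := g * p * g with hT
  have hTD : T ∈ D := conj_mem' H.cls hg hp
  have hTT := mul_self H.cls hTD
  have hTd : T * d * T = a := by
    calc T * d * T = g * (p * (g * d * g) * p) * g := by rw [hT]; simp only [mul_assoc]
      _ = d * (a * d) := by rw [cfix hgg hgd, hpdp, cmul hgg, cfix hgg hgd, S.hga]
      _ = a := by rw [had.eq, cancel hdd]
  -- the maps on the twins of `a`
  have fact : ∀ α ∈ sameCommutingClass D a, ∃ δ ∈ sameCommutingClass D d,
      g * α * g = α * δ ∧ p * δ * p = δ * α ∧ Commute α δ := by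
    intro α hα
    set δ := T * α * T with hδdef
    have hδ : δ ∈ sameCommutingClass D d := by
      have := twins_cconj H hTD hα
      rwa [cflip hTT hTd] at this
    have hαW : α ∈ iso D d := iso_twin H.cls hd S.ha hα
    have hαα := mul_self H.cls hα.1
    have hδδ := mul_self H.cls hδ.1
    have hαδ : Commute α δ := (twin_comm hδ hα.1).mpr (iso_comm hαW)
    have hαT : T * δ * T = α := cflip hTT hδdef.symm
    have h1 : g * α * g = p * δ * p := by
      calc g * α * g = (g * g) * p * (g * δ * g) * p * (g * g) := by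
            rw [← hαT, hT]; simp only [mul_assoc]
        _ = p * δ * p := by rw [hgg, one_mul, mul_one, cfix hgg ((twin_comm hδ hg).mpr hgd)]
    set ψ := (α * g) ^ 2 with hψdef
    have hψ : ψ ∈ sameCommutingSubgroup D d := hP α hαW
    have hψ1 : g * α * g = α * ψ := by
      rw [hψdef, sq_mul]; simp only [mul_assoc, cancel hαα]
    have hpα : p * α * p = α := cfix hpp ((twin_comm hα hp).mpr hpa)
    have hpδ : p * δ * p = α * ψ := by rw [← h1, hψ1]
    have hψp : p * ψ * p = α * δ := by
      have h2 := cflip hpp hpδ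
      rw [cmul hpp, hpα] at h2
      rw [← h2, cancel hαα]
    have hδψ : Commute δ ψ := twinGroup_comm H hd hψ hδ.1 (twin_comm_self hd hδ).symm
    have hαψ : Commute α ψ := twinGroup_comm H hd hψ hα.1 (iso_comm hαW)
    have hfix : p * (ψ * δ) * p = ψ * δ := by
      rw [cmul hpp, hψp, hpδ, hαδ.eq, mul_assoc δ α, cancel hαα, hδψ.eq]
    have hmem : ψ * δ ∈ sameCommutingSubgroup D d := mul_mem hψ (Subgroup.subset_closure hδ)
    have heq : ψ = δ := by
      rcases (mem_twinGroup H hd).mp hmem with h | h
      · exact absurd ((twin_comm h hp).mp (comm_of_cfix hpp hfix)) hpd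
      · calc ψ = ψ * δ * δ := by rw [mul_assoc, hδδ, mul_one]
          _ = δ := by rw [h, one_mul]
    exact ⟨δ, hδ, by rw [hψ1, heq], by rw [hpδ, heq, hαδ.eq], hαδ⟩
  have key : ∀ α ∈ sameCommutingClass D a, ∀ s k q : G, s = (α * e) ^ 2 → k = p * s * p →
      q = (k * g) ^ 2 →
      Four D α e s ∧ Commute g s ∧ k ∈ iso D d ∧ g * k * g = k * q ∧ s * (p * q * p) = k * q ∧
        q ∈ sameCommutingClass D d ∧ ¬ OddAdj D s p := by
    intro α hα s k q hsdef hkdef hqdef
    obtain ⟨δ, hδ, hgα, hpδ, hαδ⟩ := fact α hα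
    have hαW : α ∈ iso D d := iso_twin H.cls hd S.ha hα
    have hne : ¬ Commute α e := fun h => S.not_comm H ((twin_comm hα he).mp h.symm).symm
    obtain ⟨hF, hsW⟩ := iso_pair H.cls hαW S.he hne
    rw [← hsdef] at hF hsW
    have hαα := mul_self H.cls hα.1
    have hδδ := mul_self H.cls hδ.1
    have heδ : Commute e δ := (twin_comm hδ he).mpr (iso_comm S.he)
    have hpα : Commute p α := (twin_comm hα hp).mpr hpa
    have hgs : Commute g s := by
      refine comm_of_cfix hgg ?_
      rw [hF.def_eq, cmul hgg, cmul hgg, cmul hgg, hgα, cfix hgg hge]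
      calc α * δ * e * (α * δ) * e = α * (δ * e) * (δ * α) * e := by rw [← hαδ.eq]; simp only [mul_assoc]
        _ = α * e * α * e := by rw [← heδ.eq]; simp only [mul_assoc, cancel hδδ]
    have hsδ : Commute s δ := (twin_comm hδ hF.mem).mpr (iso_comm hsW)
    have hpαδ : p * (δ * α) * p = δ := cflip hpp hpδ
    have hline : s * (δ * α) ∈ D := by
      have := conj_mem' H.cls hg hF.line_left
      rw [hF.comm_left.eq, cmul hgg, cfix hgg hgs, hgα, hαδ.eq] at this
      exact this
    have hkD : k ∈ D := hkdef ▸ conj_mem' H.cls hp hF.mem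
    have hkδ : Commute k δ := by
      have := ccomm hpp (hsδ.mul_right hF.comm_left.symm)
      rwa [hpαδ, ← hkdef] at this
    have hkl : k * δ ∈ D := by
      have := conj_mem' H.cls hp hline
      rwa [cmul hpp, hpαδ, ← hkdef] at this
    have hkW := line_mem_iso H.cls hδ hkD hkδ hkl
    have hgk : g * k * g = k * q := by
      rw [hqdef, sq_mul]; simp only [mul_assoc, cancel (mul_self H.cls hkD)]
    have hfix : p * (g * k * g) * p = g * k * g := by
      calc p * (g * k * g) * p = (p * g * p) * s * (p * g * p) := by rw [hkdef]; simp only [mul_assoc]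
        _ = g * p * (g * s * g) * p * g := by rw [hbr, hT]; simp only [mul_assoc]
        _ = g * k * g := by rw [cfix hgg hgs, hkdef]; simp only [mul_assoc]
    rw [hgk, cmul hpp, cflip hpp hkdef.symm] at hfix
    have hq : q ∈ sameCommutingSubgroup D d := hqdef ▸ hP k hkW
    have hse : s * e ∈ D := hF.comm_right.eq ▸ hF.line_right
    refine ⟨hF, hgs, hkW, hgk, hfix, twin_of_group H hd hq fun hq1 => ?_, fun h => ?_⟩
    · rw [hq1, mul_one, mul_one, hpp, mul_one] at hfix
      exact no_translate H.cls (odd_symm hpe) (hF.ne_one H.cls) hF.comm_right.symm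
        (comm_of_cfix hpp (hkdef.symm.trans hfix.symm)).symm hse
    · refine no_translate H.cls (odd_symm h) (ne_one H.cls hα.1) hpα.symm hF.comm_left ?_
      have : δ * p * δ = α * p := by
        calc δ * p * δ = δ * (p * δ * p) * p := by simp only [mul_assoc, hpp, mul_one]
          _ = α * p := by rw [hpδ, cancel hδδ]
      exact this ▸ conj_mem' H.cls hδ.1 hp
  let φ : G → G := fun α => ((p * (α * e) ^ 2 * p) * g) ^ 2
  have hsub : φ '' sameCommutingClass D a ⊆ sameCommutingClass D d := by
    rintro _ ⟨α, hα, rfl⟩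
    exact (key α hα _ _ _ rfl rfl rfl).2.2.2.2.2.1
  have hinj : Set.InjOn φ (sameCommutingClass D a) := by
    intro α hα β hβ hq
    by_contra hne
    obtain ⟨hF1, -, hk1, hgk1, -, hq1, -⟩ := key α hα _ _ _ rfl rfl rfl
    obtain ⟨hF2, -, hk2, hgk2, -, -, -⟩ := key β hβ _ _ _ rfl rfl rfl
    have hαβ : α * β ≠ 1 := fun h => hne (by
      rw [← inv_eq H.cls hβ.1]; exact eq_inv_of_mul_eq_one_left h)
    have hm : α * β ∈ sameCommutingClass D a := twin_of_group H ha
      (mul_mem (Subgroup.subset_closure hα) (Subgroup.subset_closure hβ)) hαβ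
    obtain ⟨hF3, -, hk3, hgk3, -, hq3, -⟩ := key (α * β) hm _ _ _ rfl rfl rfl
    set s1 := (α * e) ^ 2 with hs1
    set s2 := (β * e) ^ 2 with hs2
    set s3 := (α * β * e) ^ 2 with hs3
    set k1 := p * s1 * p with hk1'
    set k2 := p * s2 * p with hk2'
    set k3 := p * s3 * p with hk3'
    have hαα := mul_self H.cls hα.1
    have hαβc : Commute α β := (twin_comm hβ hα.1).mpr ((twin_comm_self ha hα).symm)
    have hs1β : Commute s1 β :=
      (twin_comm hβ hF1.mem).mpr ((twin_comm hα hF1.mem).mp hF1.comm_left.symm)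
    have hs3e : s3 = s1 * s2 := by
      calc s3 = α * β * (e * α * e) * (e * β * e) := by
            rw [hs3, sq_mul]; simp only [mul_assoc, cancel hee]
        _ = α * β * α * s1 * β * s2 := by rw [hF1.left_eq, hF2.left_eq]; simp only [mul_assoc]
        _ = β * (s1 * β) * s2 := by
          rw [mul_assoc α β α, ← hαβc.eq, cancel hαα]; simp only [mul_assoc]
        _ = s1 * s2 := by rw [hs1β.eq, cancel (mul_self H.cls hβ.1)]
    have hk3e : k3 = k1 * k2 := by rw [hk3', hs3e, cmul hpp]
    have hq1k2 : Commute ((k1 * g) ^ 2) k2 := ((twin_comm hq1 (iso_mem hk2)).mpr (iso_comm hk2)).symm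
    have hq3e : (k3 * g) ^ 2 = (k1 * g) ^ 2 * (k2 * g) ^ 2 := by
      refine mul_left_cancel (a := k1 * k2) ?_
      calc k1 * k2 * (k3 * g) ^ 2 = g * (k1 * k2) * g := by rw [← hk3e, hgk3]
        _ = k1 * ((k1 * g) ^ 2 * k2) * (k2 * g) ^ 2 := by
          rw [cmul hgg, hgk1, hgk2]; simp only [mul_assoc]
        _ = k1 * k2 * ((k1 * g) ^ 2 * (k2 * g) ^ 2) := by rw [hq1k2.eq]; simp only [mul_assoc]
    have hq' : (k1 * g) ^ 2 = (k2 * g) ^ 2 := hq
    rw [← hq', mul_self H.cls hq1.1] at hq3e
    exact ne_one H.cls hq3.1 hq3e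
  have himg : φ '' sameCommutingClass D a = sameCommutingClass D d :=
    Set.eq_of_subset_of_ncard_le hsub
      (by rw [hinj.ncard_image, twins_ncard H (x := d) (y := a) ⟨T, by rw [inv_eq H.cls hTD, hTd]⟩]) (Set.toFinite _)
  obtain ⟨α, hα, hqt⟩ : t ∈ φ '' sameCommutingClass D a := himg.symm ▸ ht
  obtain ⟨δ, hδ, hgα, -, -⟩ := fact α hα
  obtain ⟨hF, -, hkW, -, hfix, -, hno⟩ := key α hα _ _ _ rfl rfl rfl
  have hαW : α ∈ iso D d := iso_twin H.cls hd S.ha hα
  set s := (α * e) ^ 2 with hs
  set k := p * s * p with hk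
  have hqt' : (k * g) ^ 2 = t := hqt
  rw [hqt'] at hfix
  have hss := mul_self H.cls hF.mem
  have hkk := mul_self H.cls (iso_mem hkW)
  have hsk : Commute s k := commute_conj_of_not_odd H.cls hF.mem hp hno
  have hptp : p * t * p = s * (k * t) := by rw [← hfix, cancel hss]
  have het' : Commute e t := (twin_comm ht he).mpr (iso_comm S.he)
  have hαt : Commute α t := (twin_comm ht hα.1).mpr (iso_comm hαW)
  have hst : s * t = 1 := by
    by_contra h1
    refine no_translate H.cls (odd_symm hpe) h1 (hF.comm_right.symm.mul_left het'.symm) ?_ ?_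
    · refine (comm_of_cfix hpp ?_).symm
      rw [cmul hpp, ← hk, hptp, ← mul_assoc, ← hsk.eq, mul_assoc s k, cancel hkk]
    · rw [show s * t * e = α * (e * t) * α by
        calc s * t * e = e * s * t := by rw [mul_assoc, ← het'.eq, ← mul_assoc, ← hF.comm_right.eq]
          _ = α * e * α * t := by rw [hF.right_eq]
          _ = α * (e * t) * α := by rw [mul_assoc (α * e) α t, hαt.eq]; simp only [mul_assoc]]
      exact conj_mem' H.cls hα.1 het
  have hstwin : s ∈ sameCommutingClass D δ := by
    rw [twin_trans hδ]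
    have hs' : s = t := by rw [← inv_eq H.cls ht.1]; exact eq_inv_of_mul_eq_one_left hst
    exact hs' ▸ ht
  have hW : iso D δ = iso D d := iso_congr H.cls hδ
  have hE : sameCommutingSubgroup D δ = sameCommutingSubgroup D d := by
    rw [sameCommutingSubgroup, sameCommutingSubgroup, twin_trans hδ]
  have hal : α * δ ∈ D := hgα ▸ conj_mem' H.cls hg hα.1
  exact Setup.not_twin H (d := δ) (e := e) (f := f) (g := g) (a := α)
    ⟨hδ.1, hW ▸ S.he, hW ▸ S.hf, hW ▸ S.hg, hW ▸ hαW, S.four, hgα, hal⟩
    (fun w hw => hE ▸ hP w (hW ▸ hw)) hstwin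

end CfsgLib.RootStruct
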