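import Cfsg.Agent.Lib.RootStruct.Lemmas

/-!
Root involutions: the configuration in which the commutator of the line partner with `e` is a twin.
-/

set_option autoImplicit false
set_option linter.unusedSectionVars false

namespace CfsgLib.RootStruct

open Cfsg Relation CfsgLib.RootInv

universe u
variable {G : Type u} [Group G] [Finite G] {D : Set G} (H : Hyp D)
include H

/-- Twins are moved along two adjacent lines simultaneously. -/
theorem scale {d x v w δ : G} (hd : d ∈ D) (hx : x ∈ D) (hxd : Commute x d) (hv : v ∈ D) (hvx : Commute v x)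
    (hvdv : v * d * v = d * x) (hw : w ∈ D) (hwd : Commute w d) (hwxw : w * x * w = x * d)
    (hδ : δ ∈ sameCommutingClass D d) (hl : δ * w ∈ D) :
    ∃ u ∈ sameCommutingClass D x, v * δ * v = δ * u ∧ w * u * w = u * δ := by
  have hvv := mul_self H.cls hv
  have hww := mul_self H.cls hw
  have hdd := mul_self H.cls hd
  have hδδ := mul_self H.cls hδ.1
  have hdx : d ≠ x := fun e => by
    rw [← e, cfix hww hwd, hdd] at hwxw
    exact ne_one H.cls hd hwxw
  have h3 := order_three H.cls hv hw (ne_one H.cls hd) (ne_one H.cls hx) hdd hdx hxd.symm hd hvdv hvx hwxw hwd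
  have hbr := braid H hv hw h3
  have hvw := odd_of_three H hv hw h3
  have hwδ : w * δ * w = δ := cfix hww ((twin_comm hδ hw).mpr hwd)
  set t := v * w * v with ht
  have htd : t * d * t = x := by
    calc t * d * t = v * (w * (v * d * v) * w) * v := by rw [ht]; simp only [mul_assoc]
      _ = v * (d * (x * d)) * v := by rw [hvdv, cmul hww, cfix hww hwd, hwxw]
      _ = x := by rw [hxd.eq, cancel hdd, cfix hvv hvx]
  set u := t * δ * t with hu'
  have hu : u ∈ sameCommutingClass D x := by
    have := twins_cconj H (conj_mem' H.cls hv hw) hδ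
    rwa [← ht, htd] at this
  refine ⟨u, hu, ?_⟩
  set σ := v * δ * v with hσ
  have hwu : w * u * w = σ := by
    calc w * u * w = (w * (w * v * w)) * δ * ((w * v * w) * w) := by
          rw [show w * u * w = w * (t * δ * t) * w from rfl, show t = w * v * w from hbr]
          simp only [mul_assoc]
      _ = v * (w * δ * w) * v := by simp only [mul_assoc, cancel hww, hww, mul_one]
      _ = σ := by rw [hwδ]
  have huu := mul_self H.cls hu.1
  have hvu : v * u * v = u := cfix hvv ((twin_comm hu hv).mpr hvx)
  have hδu : Commute δ u := (twin_comm hu hδ.1).mpr ((twin_comm hδ hx).mpr hxd).symm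
  have hδσ : Commute δ σ := by
    have := ccomm hww hδu
    rwa [hwδ, hwu] at this
  have hσu : Commute σ u := by
    have := ccomm hvv hδu
    rwa [hvu] at this
  set z := δ * σ * u with hz
  have hzw : Commute z w := by
    refine (comm_of_cfix hww ?_).symm
    rw [hz, cmul hww, cmul hww, hwδ, hwu, cflip hww hwu, mul_assoc, ← hσu.eq, ← mul_assoc]
  have hzv : Commute z v := by
    refine (comm_of_cfix hvv ?_).symm
    rw [hz, cmul hvv, cmul hvv, ← hσ, cflip hvv hσ.symm, hvu, ← hδσ.eq]
  have hz1 : z = 1 := by
    by_contra h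
    refine no_translate H.cls (odd_symm hvw) h hzw hzv ?_
    rw [show z * w = u * (δ * w) * u by
      rw [hz, mul_assoc δ σ u, hσu.eq, ← mul_assoc, hδu.eq, ← hwu]
      simp only [mul_assoc, hww, mul_one]]
    exact conj_mem' H.cls hu.1 hl
  have hσ' : σ = δ * u := by
    calc σ = δ * (δ * σ * u) * u := by simp only [mul_assoc, cancel hδδ, huu, mul_one]
      _ = δ * u := by rw [← hz, hz1, mul_one]
  exact ⟨hσ', by rw [hwu, hσ', hδu.eq]⟩

/-- The commutator of the line partner with `e` is not a twin. -/
theorem Setup.not_twin {d e f g a : G} (S : Setup D d e f g a)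
    (hP : ∀ w ∈ iso D d, (w * g) ^ 2 ∈ sameCommutingSubgroup D d)
    (hs : (a * e) ^ 2 ∈ sameCommutingClass D d) : False := by
  obtain ⟨hS, -⟩ := S.fourS H
  obtain ⟨hJ, hjW⟩ := (S.swap H).fourS H
  have hgj : Commute g ((a * f) ^ 2) := (S.swap H).g_comm_s H
  set s := (a * e) ^ 2 with hs'
  set j := (a * f) ^ 2 with hj'
  have hd := S.hd
  have he := iso_mem S.he
  have hf := iso_mem S.hf
  have ha := iso_mem S.ha
  have hg := S.four.mem
  have hdd := mul_self H.cls hd
  have hee := mul_self H.cls he
  have hff := mul_self H.cls hf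
  have haa := mul_self H.cls ha
  have hgg := mul_self H.cls hg
  have hss := mul_self H.cls hS.mem
  have had : Commute a d := iso_comm S.ha
  have hgd : Commute g d := iso_comm S.hg
  have hjd : Commute j d := iso_comm hjW
  have hge : Commute g e := S.four.comm_left.symm
  have hsf : (s * f) ^ 2 = 1 := by
    rw [((twin_comm hs hf).mpr (iso_comm S.hf)).symm.mul_pow, pow_two, pow_two, hss, hff, one_mul]
  have heje : e * j * e = j * d := by
    have h := (S.identities H (by rw [← hs', hsf]; exact one_mem _)).1
    rwa [← hs', ← hj', hsf, mul_one] at h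
  have hjdD : j * d ∈ D := heje ▸ conj_mem' H.cls he hJ.mem
  have hne : oddPartners D d ≠ oddPartners D j := by
    intro e0
    have h1 : e ∈ commutingMembers D j :=
      sameComm_of_sameOdd H.cls H.conn hd hJ.mem e0 ⟨he, iso_comm S.he⟩
    have h2 : j = j * d := (cfix hee h1.2).symm.trans heje
    exact ne_one H.cls hd (mul_left_cancel (h2.symm.trans (mul_one j).symm))
  obtain ⟨v, hv, hvj, hdvd, hvdv⟩ := exists_flipping H hd hJ.mem hjd.symm (hjd.eq ▸ hjdD) hne
  have hvv := mul_self H.cls hv
  have hdj : d ≠ j := fun e0 => hne (by rw [e0])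
  have h3 := order_three H.cls hv he (ne_one H.cls hd) (ne_one H.cls hJ.mem) hdd hdj hjd.symm hd hvdv hvj heje
    (iso_comm S.he)
  have hve := odd_of_three H hv he h3
  have hbr := braid H hv he h3
  have hjv : j * v ∈ D := hdvd ▸ conj_mem' H.cls hd hv
  have hno : ∀ y, Commute j y → ¬ OddAdj D v y := fun y hy h =>
    no_translate H.cls h (ne_one H.cls hJ.mem) hvj.symm hy hjv
  have hF := four_of H.cls hv hg
    (fun h => no_translate H.cls (odd_symm hve) (ne_one H.cls hg) hge h.symm
      (hge.eq.symm ▸ S.four.line_left))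
    (hno g hgj.symm)
  set f2 := (v * g) ^ 2 with hf2'
  have hf2f2 := mul_self H.cls hF.mem
  set c := v * g * v with hc'
  have hc : c = g * f2 := hF.right_eq
  have hf2c : f2 = g * c := by rw [hc, cancel hgg]
  have hgc : Commute g c := by rw [hc]; exact (Commute.refl g).mul_right hF.comm_right
  set c' := e * c * e with hc''
  have hgc' : Commute g c' := by
    have := ccomm hee hgc
    rwa [cfix hee hge.symm] at this
  have hvc' : v * c' * v = c' := by
    calc v * c' * v = (v * e * v) * g * (v * e * v) := by rw [hc'', hc']; simp only [mul_assoc]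
      _ = (e * v * e) * g * (e * v * e) := by rw [hbr]
      _ = e * v * (e * g * e) * v * e := by simp only [mul_assoc]
      _ = c' := by rw [cfix hee hge.symm, hc'', hc']; simp only [mul_assoc]
  have hcc' : Commute c c' := by
    have := ccomm hvv hgc'
    rwa [← hc', hvc'] at this
  have hz : g * c * c' = 1 := by
    by_contra h
    refine no_translate H.cls (odd_symm hve) h ?_ ?_ ?_
    · refine (comm_of_cfix hee ?_).symm
      rw [cmul hee, cmul hee, cfix hee hge.symm, ← hc'', cflip hee hc''.symm, mul_assoc, ← hcc'.eq, ← mul_assoc]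
    · refine (comm_of_cfix hvv ?_).symm
      rw [cmul hvv, cmul hvv, ← hc', cflip hvv hc'.symm, hvc', ← hgc.eq]
    · rw [show g * c * c' * e = c * (g * e) * c by
        rw [hc'', hgc.eq]; simp only [mul_assoc, hee, mul_one]]
      exact conj_mem' H.cls (conj_mem' H.cls hv hg) (hge.eq.symm ▸ S.four.line_left)
  rw [← hf2c] at hz
  have hc'f2 : e * c * e = f2 := by
    rw [← hc'']
    calc c' = f2 * (f2 * c') := (cancel hf2f2 c').symm
      _ = f2 := by rw [hz, mul_one]
  have hef2e : e * f2 * e = g * f2 := (cflip hee hc'f2).trans hc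
  have hg1 : e * f2 * e * f2 = g := by rw [hef2e, mul_assoc, hf2f2, mul_one]
  have hg2 : f2 * e * f2 * e = g := by
    calc f2 * e * f2 * e = f2 * (e * f2 * e) := by simp only [mul_assoc]
      _ = g := by rw [hef2e, ← mul_assoc, ← hF.comm_right.eq, mul_assoc, hf2f2, mul_one]
  have hjc : Commute j c := by
    have := ccomm hvv hgj.symm
    rwa [cfix hvv hvj] at this
  have hdj' : d * v * d = v * j := by rw [hdvd, hvj.eq]
  have hcd : Commute c d := by
    refine (comm_of_cfix hdd ?_).symm
    calc d * c * d = (d * v * d) * (d * g * d) * (d * v * d) := by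
          rw [hc']; simp only [mul_assoc, cancel hdd]
      _ = (j * v) * g * (v * j) := by
          rw [cfix hdd hgd.symm]; nth_rewrite 1 [hdvd]; rw [hdj']
      _ = j * c * j := by rw [hc']; simp only [mul_assoc]
      _ = c := cfix (mul_self H.cls hJ.mem) hjc
  have hf2d : Commute f2 d := by rw [hf2c]; exact hgd.mul_left hcd
  set j2 := (a * f2) ^ 2 with hj2'
  have hf2a : f2 * a * f2 = a * j2 := by
    rw [hj2', sq_mul]; simp only [mul_assoc, cancel haa]
  have hsf2 : Commute f2 s := (twin_comm hs hF.mem).mpr hf2d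
  have hsj2 : Commute s j2 := by
    rw [hj2', sq_mul]
    exact ((hS.comm_left.symm.mul_right hsf2.symm).mul_right hS.comm_left.symm).mul_right hsf2.symm
  have hej2 : e * j2 * e = j2 * d := by
    have := identity H hdd haa hee hf2f2 hss hg1 hg2 S.hga (iso_comm S.he) hf2d hS.left_eq hf2a
      (show f2 * s * f2 = s * 1 by rw [mul_one, cfix hf2f2 hsf2]) hsj2
    rwa [mul_one] at this
  set B := v * a * v with hB'
  have hBd : Commute B d := by
    refine (comm_of_cfix hdd ?_).symm
    calc d * B * d = (d * v * d) * (d * a * d) * (d * v * d) := by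
          rw [hB']; simp only [mul_assoc, cancel hdd]
      _ = (j * v) * a * (v * j) := by
          rw [cfix hdd had.symm]; nth_rewrite 1 [hdvd]; rw [hdj']
      _ = j * B * j := by rw [hB']; simp only [mul_assoc]
      _ = B := by
        have := ccomm hvv hJ.comm_left.symm
        rw [cfix hvv hvj] at this
        exact cfix (mul_self H.cls hJ.mem) this
  have hBD : B ∈ D := conj_mem' H.cls hv ha
  have hBW : B ∈ iso D d := by
    refine line_mem_iso H.cls (twin_refl hd) hBD hBd ?_
    have hmem : f * (a * d) * f ∈ D := conj_mem' H.cls hf S.hal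
    rw [cmul hff, hJ.left_eq, cfix hff (iso_comm S.hf), mul_assoc, hjd.eq] at hmem
    have := conj_mem' H.cls hv hmem
    rwa [cmul hvv, ← hB', cflip hvv hvdv] at this
  have hδB := hP B hBW
  set δB := (B * g) ^ 2 with hδB'
  have hgBg : g * B * g = B * δB := by
    rw [hδB', sq_mul]; simp only [mul_assoc, cancel (mul_self H.cls hBD)]
  have hgBg' : g * B * g = B * (v * j2 * v * (d * j)) := by
    calc g * B * g = (g * v * g) * (g * a * g) * (g * v * g) := by
          rw [hB']; simp only [mul_assoc, cancel hgg]
      _ = v * f2 * (a * d) * (f2 * v) := by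
          rw [S.hga]; nth_rewrite 1 [hF.left_eq]; rw [hF.left_eq, hF.comm_left.eq]
      _ = v * (f2 * (a * d) * f2) * v := by simp only [mul_assoc]
      _ = B * (v * j2 * v * (d * j)) := by
          rw [cmul hf2f2, hf2a, cfix hf2f2 hf2d, cmul hvv, cmul hvv, ← hB', hvdv, mul_assoc]
  have hδB1 : δB = v * j2 * v * (d * j) := mul_left_cancel (hgBg.symm.trans hgBg')
  set η := d * δB with hη'
  have hη : η ∈ sameCommutingSubgroup D d := mul_mem (self_mem_twinGroup H hd) hδB
  have hvj2 : v * j2 * v = η * j := by
    calc v * j2 * v = δB * (j * d) := by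
          rw [hδB1]; simp only [mul_assoc, cancel (mul_self H.cls hJ.mem), hdd, mul_one]
      _ = η * j := by
          rw [hjd.eq, ← mul_assoc, hη', (twinGroup_comm H hd hδB hd (Commute.refl d)).eq]
  have hη1 : η = 1 := by
    by_contra h
    have hηT := twin_of_group H hd hη h
    have hηη := mul_self H.cls hηT.1
    have hvd : ¬ Commute v d := fun h0 => by
      rw [cfix hvv h0] at hvdv
      exact ne_one H.cls hJ.mem (mul_left_cancel (hvdv.symm.trans (mul_one d).symm))
    have hU := four_of H.cls hηT.1 hv (fun h0 => hvd ((twin_comm hηT hv).mp h0.symm))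
      fun h0 => hno d hjd (odd_symm ((twin_odd H.cls hd hηT).mp h0))
    refine no_translate H.cls hve (hU.ne_one H.cls) hU.comm_right.symm ?_ (hU.comm_right.eq ▸ hU.line_right)
    refine (comm_of_cfix hee ?_).symm
    have heη : e * η * e = η := cfix hee (twinGroup_comm H hd hη he (iso_comm S.he))
    have hj2e : j2 = (v * η * v) * j := by
      rw [← cflip hvv hvj2, cmul hvv, cfix hvv hvj]
    have hw : e * (v * η * v) * e = v * η * v := by
      have h1 := hej2
      rw [hj2e, cmul hee, heje, mul_assoc (v * η * v) j d] at h1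
      exact mul_right_cancel h1
    rw [sq_mul, show η * v * η * v = η * (v * η * v) by simp only [mul_assoc], cmul hee, heη, hw]
  have hBg : g * B * g = B * d := by
    rw [hgBg, show δB = d from by rw [← cancel hdd δB, ← hη', hη1, mul_one]]
  set m := (a * v) ^ 2 with hm'
  have hmB : m = a * B := by rw [hm', sq_mul, hB']; simp only [mul_assoc]
  have hm : m = 1 ∨ (m ∈ D ∧ Commute a m ∧ Commute v m) := by
    by_cases h : Commute a v
    · left
      rw [hm', h.mul_pow, pow_two, pow_two, haa, hvv, one_mul]
    · right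
      have hM := four_of H.cls ha hv h fun h0 => hno a hJ.comm_left.symm (odd_symm h0)
      exact ⟨hM.mem, hM.comm_left, hM.comm_right⟩
  have mtwin : ∀ {x δ : G}, δ ∈ sameCommutingClass D x → Commute m x → Commute m δ := by
    intro x δ hδ hmx
    rcases hm with h | ⟨h, -⟩
    · rw [h]; exact Commute.one_left δ
    · exact (twin_comm hδ h).mpr hmx
  have ham : Commute a m := hm.elim (fun h => h ▸ Commute.one_right a) fun h => h.2.1
  have hvm : Commute v m := hm.elim (fun h => h ▸ Commute.one_right v) fun h => h.2.2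
  have hmm : m * m = 1 := hm.elim (fun h => by rw [h, one_mul]) fun h => mul_self H.cls h.1
  have hmg : Commute m g := by
    refine (comm_of_cfix hgg ?_).symm
    rw [hmB, cmul hgg, S.hga, hBg, mul_assoc a, hBd.eq, cancel hdd]
  have hmd : Commute m d := by rw [hmB]; exact had.mul_left hBd
  have hmj : Commute m j := by
    rw [hm', sq_mul]
    exact ((hJ.comm_left.mul_left hvj).mul_left hJ.comm_left).mul_left hvj
  have hBam : v * a * v = a * m := by rw [hmB, cancel haa]
  have hagag : a * g * a = g * d := by
    calc a * g * a = a * ((g * a * g) * g) := by simp only [mul_assoc, hgg, mul_one]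
      _ = g * d := by rw [S.hga, mul_assoc, cancel haa, hgd.symm.eq]
  have hne' : oddPartners D d ≠ oddPartners D g := by
    intro e0
    have h1 : a ∈ commutingMembers D g := sameComm_of_sameOdd H.cls H.conn hd hg e0 ⟨ha, had⟩
    have h2 : g = g * d := (cfix haa h1.2).symm.trans hagag
    exact ne_one H.cls hd (mul_left_cancel (h2.symm.trans (mul_one g).symm))
  have hgdD : g * d ∈ D := hagag ▸ conj_mem' H.cls ha hg
  obtain ⟨v', hv', hv'g, -, hv'd⟩ := exists_flipping H hd hg hgd.symm (hgd.eq ▸ hgdD) hne'
  obtain ⟨g', hg', -, hag'⟩ := scale H hd hg hgd hv' hv'g hv'd ha had hagag hs (hS.comm_left.eq ▸ hS.line_left)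
  obtain ⟨u, hu, hvs, heu⟩ := scale H hd hJ.mem hjd hv hvj hvdv he (iso_comm S.he) heje hs
    (hS.comm_right.eq ▸ hS.line_right)
  have hg'g' := mul_self H.cls hg'.1
  have hsg' : Commute s g' := (twin_comm hg' hS.mem).mpr (S.g_comm_s H).symm
  have hgu : Commute g u := (twin_comm hu hg).mpr hgj
  have hug' : Commute u g' := (twin_comm hg' hu.1).mpr hgu.symm
  have hsu : Commute s u := (twin_comm hu hS.mem).mpr ((twin_comm hs hJ.mem).mpr hjd).symm
  have hau : Commute a u := (twin_comm hu ha).mpr hJ.comm_left
  have hud : Commute u d := ((twin_comm hu hd).mpr hjd.symm).symm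
  have hvu : Commute v u := (twin_comm hu hv).mpr hvj
  have hms : Commute m s := mtwin hs hmd
  have hg'a : g' * a * g' = a * s := by
    calc g' * a * g' = g' * (a * g' * a) * a := by simp only [mul_assoc, haa, mul_one]
      _ = a * s := by rw [hag', ← mul_assoc g' g', hg'g', one_mul, hS.comm_left.symm.eq]
  have hfixg : ∀ {x : G}, Commute x g' → g' * x * g' = x := fun h => cfix hg'g' h.symm
  have r1 : v * (a * s) * v = a * m * (s * u) := by rw [cmul hvv, hBam, hvs]
  have r2 : g' * (a * m * (s * u)) * g' = a * m * u := by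
    rw [cmul hg'g', cmul hg'g', cmul hg'g', hg'a, hfixg (mtwin hg' hmg), hfixg hsg', hfixg hug']
    calc a * s * m * (s * u) = a * (s * m) * (s * u) := by rw [mul_assoc a s m]
      _ = a * m * u := by rw [← hms.eq]; simp only [mul_assoc, cancel hss]
  have r3 : v * (a * m * u) * v = a * u := by
    rw [cmul hvv, cmul hvv, hBam, cfix hvv hvm, cfix hvv hvu, mul_assoc a m m, hmm, mul_one]
  have hauD : a * u ∈ D := by
    rw [← r3, ← r2, ← r1, ← hg'a]
    exact conj_mem' H.cls hv (conj_mem' H.cls hg'.1 (conj_mem' H.cls hv (conj_mem' H.cls hg'.1 ha)))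
  have hgau : g * (a * u) * g = a * u * d := by
    rw [cmul hgg, S.hga, cfix hgg hgu, mul_assoc, ← hud.eq, mul_assoc]
  refine no_commuting H hd he (iso_comm S.he) S.hf S.four.left_eq hg hgd hge S.four.comm_right.symm
    S.four.line_left hauD (had.mul_left hud) (hgau ▸ conj_mem' H.cls hg hauD) hgau ?_
  refine (comm_of_cfix hee ?_).symm
  rw [cmul hee, hS.left_eq, heu, ← hsu.eq, mul_assoc, cancel hss]

end CfsgLib.RootStruct
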